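import Cfsg.Agent.H9.TernaryBits

/-!
# A word for each hexad
-/

set_option autoImplicit false

namespace Cfsg.Agent.H9

/-- Coefficient vectors of words supported on the hexads, in the order of `hexadMasks`. -/
def hexadWitness : List (Fin 6 → ZMod 3) :=
  [![1, 1, 1, 2, 2, 0],
   ![0, 1, 2, 1, 2, 2],
   ![1, 0, 2, 1, 0, 1],
   ![1, 2, 0, 0, 1, 2],
   ![1, 2, 0, 1, 2, 1],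
   ![0, 1, 2, 2, 0, 1],
   ![1, 0, 2, 0, 2, 2],
   ![1, 0, 2, 2, 1, 0],
   ![1, 2, 0, 2, 0, 0],
   ![0, 1, 2, 0, 1, 0],
   ![1, 1, 1, 0, 0, 2],
   ![0, 0, 0, 1, 1, 2],
   ![1, 2, 2, 2, 0, 2],
   ![0, 1, 1, 0, 1, 2],
   ![1, 0, 0, 2, 1, 1],
   ![1, 1, 0, 1, 1, 0],
   ![1, 1, 2, 0, 0, 0],
   ![0, 0, 1, 1, 1, 0],
   ![1, 0, 1, 0, 2, 1],
   ![0, 1, 0, 2, 0, 2],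
   ![1, 2, 1, 0, 1, 0],
   ![1, 0, 1, 1, 0, 0],
   ![0, 1, 0, 1, 2, 0],
   ![0, 0, 1, 2, 2, 2],
   ![1, 1, 0, 0, 0, 1],
   ![0, 1, 1, 2, 0, 0],
   ![1, 0, 0, 0, 2, 0],
   ![1, 0, 0, 1, 0, 2],
   ![0, 1, 0, 0, 1, 1],
   ![0, 0, 1, 0, 0, 1],
   ![1, 0, 1, 1, 1, 2],
   ![1, 2, 1, 0, 0, 1],
   ![0, 1, 0, 1, 1, 1],
   ![1, 2, 2, 0, 2, 0],
   ![0, 1, 1, 1, 0, 0],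
   ![1, 0, 0, 1, 2, 0],
   ![1, 1, 0, 2, 0, 1],
   ![0, 0, 1, 0, 2, 2],
   ![1, 1, 2, 1, 0, 0],
   ![1, 1, 0, 0, 1, 0],
   ![0, 0, 1, 2, 1, 0],
   ![0, 1, 1, 0, 2, 1],
   ![1, 0, 0, 2, 0, 2],
   ![0, 1, 0, 2, 2, 0],
   ![1, 0, 1, 0, 0, 0],
   ![0, 0, 1, 1, 0, 1],
   ![1, 0, 0, 0, 1, 1],
   ![0, 1, 0, 0, 0, 2],
   ![0, 1, 2, 2, 1, 0],
   ![1, 2, 0, 1, 0, 0],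
   ![1, 0, 2, 0, 1, 0],
   ![1, 1, 0, 0, 2, 2],
   ![0, 0, 1, 2, 0, 1],
   ![1, 0, 1, 2, 0, 0],
   ![0, 1, 0, 0, 2, 0],
   ![0, 1, 2, 0, 0, 1],
   ![0, 0, 0, 1, 2, 1],
   ![1, 0, 0, 0, 0, 2],
   ![1, 0, 0, 2, 2, 0],
   ![0, 1, 1, 0, 0, 0],
   ![1, 0, 2, 0, 0, 1],
   ![0, 1, 0, 1, 0, 2],
   ![0, 0, 0, 0, 1, 2],
   ![1, 2, 0, 0, 0, 0],
   ![0, 0, 1, 0, 1, 0],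
   ![0, 0, 0, 1, 0, 0],
   ![1, 1, 2, 0, 1, 1],
   ![1, 1, 0, 1, 0, 2],
   ![0, 0, 1, 1, 2, 1],
   ![1, 2, 1, 1, 0, 0],
   ![1, 0, 1, 0, 1, 0],
   ![0, 1, 0, 2, 1, 0],
   ![1, 0, 0, 2, 2, 2],
   ![0, 1, 1, 0, 0, 1],
   ![0, 1, 1, 1, 1, 0],
   ![1, 2, 2, 0, 0, 0],
   ![1, 0, 0, 1, 1, 0],
   ![1, 0, 1, 2, 0, 1],
   ![0, 1, 0, 0, 2, 2],
   ![1, 1, 0, 0, 2, 0],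
   ![0, 0, 1, 2, 0, 0],
   ![0, 1, 0, 1, 0, 1],
   ![0, 0, 1, 0, 1, 2],
   ![1, 0, 0, 0, 0, 1],
   ![1, 0, 2, 1, 2, 0],
   ![0, 1, 2, 1, 0, 0],
   ![1, 2, 0, 0, 2, 0],
   ![0, 1, 0, 2, 2, 1],
   ![1, 0, 1, 0, 0, 2],
   ![0, 1, 1, 0, 2, 0],
   ![1, 0, 0, 2, 0, 0],
   ![1, 2, 0, 0, 0, 1],
   ![0, 0, 1, 1, 0, 2],
   ![0, 0, 0, 0, 1, 1],
   ![1, 1, 0, 2, 0, 0],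
   ![0, 0, 1, 0, 2, 0],
   ![0, 1, 2, 0, 0, 2],
   ![1, 0, 0, 0, 1, 2],
   ![0, 0, 0, 1, 0, 1],
   ![1, 0, 2, 0, 0, 0],
   ![0, 0, 0, 1, 2, 0],
   ![0, 1, 0, 0, 0, 0],
   ![1, 2, 0, 2, 1, 0],
   ![1, 0, 2, 2, 0, 0],
   ![0, 1, 2, 0, 2, 0],
   ![0, 1, 1, 2, 0, 2],
   ![1, 0, 0, 0, 2, 1],
   ![0, 0, 1, 2, 2, 0],
   ![1, 1, 0, 0, 0, 0],
   ![1, 0, 2, 0, 0, 2],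
   ![0, 1, 0, 0, 1, 2],
   ![0, 0, 0, 1, 0, 2],
   ![1, 0, 1, 0, 2, 0],
   ![0, 1, 0, 2, 0, 0],
   ![1, 2, 0, 0, 0, 2],
   ![0, 0, 0, 1, 2, 2],
   ![0, 0, 1, 0, 0, 2],
   ![0, 1, 2, 0, 0, 0],
   ![1, 0, 0, 1, 0, 0],
   ![0, 0, 0, 0, 1, 0],
   ![1, 1, 1, 0, 0, 0],
   ![0, 0, 0, 1, 1, 0],
   ![1, 0, 0, 1, 0, 1],
   ![0, 0, 1, 0, 1, 1],
   ![0, 1, 0, 0, 0, 1],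
   ![0, 1, 0, 1, 0, 0],
   ![1, 0, 0, 0, 1, 0],
   ![0, 0, 1, 0, 0, 0],
   ![0, 0, 1, 1, 0, 0],
   ![0, 1, 0, 0, 1, 0],
   ![1, 0, 0, 0, 0, 0],
   ![0, 0, 0, 0, 0, 1]]

end Cfsg.Agent.H9
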